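import Cfsg.Agent.Lib.Helper3.NarrowData
import Cfsg.Agent.Lib.Helper3.RankTwoAut
import Cfsg.Agent.Lib.Helper2.BG10B
import Cfsg.Agent.Lib.Helper30.BGBeta1
import Cfsg.Agent.Lib.Helper58.BG9a

/-!
`p`-elements of `N(Q)'` centralize the `r`-group `Q` when `Q` contains a maximal elementary abelian
subgroup of order `r ^ 2` of `G` (B-G 10.9(c) in the form used for Theorem 12.7).
-/

set_option autoImplicit false

namespace Cfsg.Agent.Lib.Helper13.BG127

open Subgroup Cfsg.Agent.Lib.Helper30 Cfsg.Agent.Lib.Helper2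

universe u

theorem mem_centralizer_of_mem_commutator {G : Type u} [Group G] [Finite G]
    (hG : Cfsg.IsMinSimpleOddOrder G) {p r : ℕ} [hpp : Fact p.Prime] [hrr : Fact r.Prime]
    (hpr : p ≠ r)
    {Q B : Subgroup G} (hQ : IsPGroup r Q) (hBQ : B ≤ Q) (hB : Cfsg.IsElementaryAbelian r B)
    (hB2 : Nat.card B = r ^ 2)
    (hmax : ∀ C : Subgroup G, Cfsg.IsElementaryAbelian r C → B ≤ C → C = B)
    {x : G} (hx : x ∈ ⁅normalizer (Q : Set G), normalizer (Q : Set G)⁆) {k : ℕ}
    (hxp : x ^ p ^ k = 1) : x ∈ centralizer (Q : Set G) := by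
  have hB1 : B ≠ ⊥ := by
    rintro rfl
    rw [card_bot] at hB2
    have : 1 < r ^ 2 := Nat.one_lt_pow (by norm_num) hrr.out.one_lt
    omega
  have hQ1 : Q ≠ ⊥ := fun h => hB1 (le_bot_iff.mp (h ▸ hBQ))
  have hQtop : Q ≠ ⊤ := Cfsg.Agent.Lib.Helper58.BG9.ne_top_of_isPGroup hG hQ
  have hNtop : normalizer (Q : Set G) ≠ ⊤ := normalizer_ne_top hG hQ1 hQtop
  have hsol : Group.IsSolvable (normalizer (Q : Set G)) := solvable_of_ne_top hG hNtop
  have hodd : Odd (Nat.card (normalizer (Q : Set G))) :=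
    Odd.of_dvd_nat hG.1 (card_subgroup_dvd_card _)
  have hr2 : r ≠ 2 := ne_two_of_dvd_card hG
    ((by rw [hB2]; exact dvd_pow_self r (by norm_num) : r ∣ Nat.card B).trans
      (card_subgroup_dvd_card B))
  rw [← map_subtype_commutator] at hx
  obtain ⟨y, hy, rfl⟩ := hx
  have hyp : y ^ p ^ k = 1 := Subtype.ext hxp
  have hord : (orderOf (Q.normalizerMonoidHom y)).Coprime r := by
    have h1 : orderOf (Q.normalizerMonoidHom y) ∣ p ^ k := by
      apply orderOf_dvd_of_pow_eq_one
      rw [← map_pow, hyp, map_one]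
    exact Nat.Coprime.coprime_dvd_left h1
      (Nat.Coprime.pow_left _ ((Nat.coprime_primes hpp.out hrr.out).mpr hpr))
  have h1 : Q.normalizerMonoidHom y = 1 := by
    by_cases hrk : Cfsg.PRankLE r 2 ↥Q
    · exact Cfsg.Agent.Lib.Helper3.commutator_act_trivial_of_rank_two hr2 hQ hrk hodd
        Q.normalizerMonoidHom y hy hord
    · have hN : Cfsg.Agent.Lib.Helper3.NarrowData r ↥Q := by
        have hmc : (B.comap Q.subtype).map Q.subtype = B :=
          map_comap_eq_self (by rw [Subgroup.range_subtype]; exact hBQ)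
        refine ⟨B.comap Q.subtype, ea_comap Q.subtype Q.subtype_injective hB, ?_, ?_⟩
        · rw [← card_map_of_injective Q.subtype_injective, hmc, hB2]
        · intro C hC hle
          have h1 := hmax (C.map Q.subtype) (ea_map Q.subtype hC) (hmc ▸ map_mono hle)
          rw [← comap_map_eq_self_of_injective Q.subtype_injective C, h1]
      exact (Cfsg.Agent.Lib.Helper3.narrow_act hr2 hQ hrk hN).1 _
        (Cfsg.Agent.Lib.Helper3.map_commutator_le Q.normalizerMonoidHom hy) hord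
  rw [mem_centralizer_iff]
  intro q hq
  have h3 := congrArg (fun a : MulAut ↥Q => ((a ⟨q, hq⟩ : ↥Q) : G)) h1
  have h4 : (y : G) * q * (y : G)⁻¹ = q := h3
  rw [mul_inv_eq_iff_eq_mul] at h4
  exact h4.symm

end Cfsg.Agent.Lib.Helper13.BG127
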