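import Cfsg.Agent.S1412
import Cfsg.Agent.S1453
import Cfsg.Agent.Lib.Helper30.BGBeta1
import Cfsg.Agent.Lib.Helper68.BG11_4a

/-!
B-G Theorem 12.7 (S1419 ladder), rung PTH (written by helper68).
-/

set_option autoImplicit false

namespace Cfsg.Agent.Lib.Helper13.BG127

open Subgroup Cfsg.Agent.Lib.Helper30 Cfsg.Agent.Lib.Helper2

universe u

theorem not_pth_power {G : Type u} [Group G] [Finite G] (hG : Cfsg.IsMinSimpleOddOrder G)
    {p : ℕ} [Fact p.Prime] (S : Sylow p G) {A : Subgroup G} (hAS : A ≤ (S : Subgroup G))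
    (hA : Cfsg.IsElementaryAbelian p A) (hA2 : Nat.card A = p ^ 2)
    (hmax : ∀ B : Subgroup G, Cfsg.IsElementaryAbelian p B → A ≤ B → B = A)
    {a s : G} (ha : a ∈ A) (hs : s ∈ (S : Subgroup G)) (hsa : s * a ≠ a * s) :
    ∀ y ∈ (S : Subgroup G), y ^ p ≠ a := by
  have hA1 : A ≠ ⊥ := by
    intro h
    rw [h, Subgroup.card_bot] at hA2
    have := (Fact.out : p.Prime).one_lt
    have h2 : 1 < p ^ 2 := Nat.one_lt_pow (by norm_num) this
    omega
  have hp2 : p ≠ 2 :=
    Cfsg.Agent.Lib.Helper58.BG9.ne_two_of_isPGroup hG (ea_isPGroup hA) hA1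
  intro y hy hya
  by_cases hr : Cfsg.PRankLE p 2 (S : Subgroup G)
  · rcases Cfsg.Agent.S1412.result hG p S hr with hab | ⟨P₁, P₂, hsup, hcomm, -, -, hexp, hcyc, -⟩
    · exact hsa (congrArg Subtype.val
        (hab.is_comm.comm (⟨s, hs⟩ : (S : Subgroup G)) ⟨a, hAS ha⟩))
    · have hdec : ∀ x ∈ (S : Subgroup G), ∃ a ∈ P₁, ∃ b ∈ P₂, x = a * b := by
        intro x hx
        rw [← hsup] at hx
        exact (Cfsg.Agent.Lib.Helper14.mem_sup_of_commute hcomm).mp hx
      have hP2 : ∀ b ∈ P₂, ∀ b' ∈ P₂, b * b' = b' * b := by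
        intro b hb b' hb'
        exact congrArg Subtype.val (IsCyclic.commGroup.mul_comm (⟨b, hb⟩ : P₂) ⟨b', hb'⟩)
      obtain ⟨u, hu, v, hv, rfl⟩ := hdec y hy
      obtain ⟨u', hu', v', hv', rfl⟩ := hdec s hs
      have hup : u ^ p = 1 := by
        have := Monoid.pow_exponent_eq_one (⟨u, hu⟩ : P₁)
        rw [hexp] at this
        exact congrArg Subtype.val this
      have hc : Commute u v := hcomm u hu v hv
      rw [hc.mul_pow, hup, one_mul] at hya
      have hvp : v ^ p ∈ P₂ := P₂.pow_mem hv p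
      apply hsa
      rw [← hya]
      calc u' * v' * v ^ p = u' * (v' * v ^ p) := by group
        _ = u' * (v ^ p * v') := by rw [hP2 v' hv' _ hvp]
        _ = (u' * v ^ p) * v' := by group
        _ = (v ^ p * u') * v' := by rw [hcomm u' hu' _ hvp]
        _ = v ^ p * (u' * v') := by group
  · set E : Subgroup (S : Subgroup G) := A.subgroupOf (S : Subgroup G) with hE
    have hmemE : ∀ x : (S : Subgroup G), x ∈ E ↔ (x : G) ∈ A := fun x => Subgroup.mem_subgroupOf
    have hEea : Cfsg.IsElementaryAbelian p E :=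
      ea_comap (S : Subgroup G).subtype (S : Subgroup G).subtype_injective hA
    have hE2 : Nat.card E = p ^ 2 := by
      rw [← hA2]
      exact Nat.card_congr (Subgroup.subgroupOfEquivOfLe hAS).toEquiv
    have hEmax : ∀ B : Subgroup (S : Subgroup G), Cfsg.IsElementaryAbelian p B → E ≤ B → B = E := by
      intro B hB hEB
      refine le_antisymm ?_ hEB
      have h1 : A ≤ B.map (S : Subgroup G).subtype := by
        intro x hx
        exact ⟨⟨x, hAS hx⟩, hEB ((hmemE _).mpr hx), rfl⟩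
      have h2 := hmax _ (ea_map (S : Subgroup G).subtype hB) h1
      intro b hb
      rw [hmemE, ← h2]
      exact ⟨b, hb, rfl⟩
    obtain ⟨hET, hZ, -, hchar, hidx⟩ :=
      Cfsg.Agent.S1453.result p hp2 S.isPGroup' hr E hEea hE2 hEmax
    set T := centralizer ((closure {x : (S : Subgroup G) |
      x ∈ Subgroup.upperCentralSeries (S : Subgroup G) 2 ∧ x ^ p = 1} :
        Subgroup (S : Subgroup G)) : Set (S : Subgroup G)) with hT
    set Z := closure {x : (S : Subgroup G) | x ∈ center (S : Subgroup G) ∧ x ^ p = 1} with hZdef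
    have hTn : T.Normal := @Subgroup.normal_of_characteristic _ _ _ hchar
    have hZc : Z ≤ center (S : Subgroup G) := (closure_le _).mpr (fun x hx => hx.1)
    have hZe : Cfsg.IsElementaryAbelian p Z := ea_closure_center p
    have hZT : Z ≤ T := hZc.trans (center_le_centralizer _)
    have hZE : Z ≤ E := by
      have h1 : Cfsg.IsElementaryAbelian p (E ⊔ Z) := ea_sup hEea hZe (fun a _ b hb =>
        (mem_center_iff.mp (hZc hb) a))
      have h2 := hEmax _ h1 le_sup_left
      exact h2 ▸ le_sup_right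
    have hETc : Nat.card ↥(E ⊓ T) ∣ p := by
      have := Cfsg.Agent.Lib.Helper68.BG11.card_dvd_of_lt (p := p) (n := 1) (D := E ⊓ T) (E := E)
        hE2 inf_le_left (fun h => hET (h ▸ inf_le_right))
      rwa [pow_one] at this
    have hZeq : Z = E ⊓ T :=
      Subgroup.eq_of_le_of_card_ge (le_inf hZE hZT)
        (by rw [hZ]; exact Nat.le_of_dvd (Fact.out : p.Prime).pos hETc)
    have hyT : (⟨y, hy⟩ : (S : Subgroup G)) ^ p ∈ T := by
      have := Subgroup.pow_index_mem T (⟨y, hy⟩ : (S : Subgroup G))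
      rwa [hidx] at this
    have hyE : (⟨y, hy⟩ : (S : Subgroup G)) ^ p ∈ E := by
      rw [hmemE]
      show y ^ p ∈ A
      rw [hya]
      exact ha
    have hcen : (⟨y, hy⟩ : (S : Subgroup G)) ^ p ∈ center (S : Subgroup G) :=
      hZc (hZeq ▸ (⟨hyE, hyT⟩ : _ ∈ E ⊓ T))
    have h3 := mem_center_iff.mp hcen ⟨s, hs⟩
    have h4 : s * y ^ p = y ^ p * s := congrArg Subtype.val h3
    rw [hya] at h4
    exact hsa h4

end Cfsg.Agent.Lib.Helper13.BG127
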