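import Cfsg.Agent.Lib.Helper2.BG10A
import Cfsg.Agent.Lib.Helper2.BG96A
import Cfsg.Agent.Lib.Helper68.BG11_4a

/-!
B-G Theorem 12.7 (S1419 ladder), rung TRANSV (written by helper68).
-/

set_option autoImplicit false

namespace Cfsg.Agent.Lib.Helper13.BG127

open Subgroup Cfsg.Agent.Lib.Helper30 Cfsg.Agent.Lib.Helper2

universe u

theorem eq_zpowers_of_card_prime {G : Type u} [Group G] [Finite G] {p : ℕ} [Fact p.Prime]
    {X : Subgroup G} (h : Nat.card X = p) {x : G} (hx : x ∈ X) (hx1 : x ≠ 1) : X = zpowers x :=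
  le_antisymm
    (fun _ hy => Cfsg.Agent.Lib.Helper68.BG11.mem_zpowers_of_card_prime (p := p) (by rw [h]) hx hx1 hy)
    (zpowers_le.mpr hx)

theorem exists_ne_one_of_card_prime {G : Type u} [Group G] {p : ℕ} [hp : Fact p.Prime]
    {X : Subgroup G} (h : Nat.card X = p) : ∃ x ∈ X, x ≠ 1 := by
  have hne : X ≠ ⊥ := by
    intro h0
    rw [h0, Subgroup.card_bot] at h
    exact hp.out.one_lt.ne h
  obtain ⟨a, ha⟩ := (Subgroup.ne_bot_iff_exists_ne_one).mp hne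
  exact ⟨a, a.2, fun h => ha (Subtype.ext h)⟩

theorem transv {G : Type u} [Group G] [Finite G] {p : ℕ} [Fact p.Prime] {A : Subgroup G}
    (hA : Cfsg.IsElementaryAbelian p A) (hA2 : Nat.card A = p ^ 2) {s : G}
    (hsN : s ∈ normalizer (A : Set G)) (hsC : s ∉ centralizer (A : Set G)) {k : ℕ}
    (hsp : s ^ p ^ k = 1) :
    ∃ Z : Subgroup G, Z ≤ A ∧ Nat.card Z = p ∧ s ∈ centralizer (Z : Set G) ∧
      ∀ X Y : Subgroup G, X ≤ A → Y ≤ A → Nat.card X = p → Nat.card Y = p → X ≠ Z → Y ≠ Z →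
        ∃ i : ℕ, Y = cj (s ^ i) X := by
  have hpp : p.Prime := Fact.out
  have hconj : ∀ a ∈ A, s * a * s⁻¹ ∈ A := fun a ha => (mem_normalizer_iff.mp hsN a).mp ha
  have hcomm : ∀ a ∈ A, ∀ b ∈ A, a * b = b * a := fun a ha b hb => ea_comm hA ha hb
  have hPs : IsPGroup p (zpowers s) := by
    rintro ⟨g, hg⟩
    obtain ⟨n, rfl⟩ := mem_zpowers_iff.mp hg
    refine ⟨k, Subtype.ext ?_⟩
    show (s ^ n) ^ p ^ k = 1
    rw [← zpow_natCast, ← zpow_mul, mul_comm, zpow_mul, zpow_natCast, hsp, one_zpow]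
  have hfix : ∀ N : Subgroup G, N ≤ A → N ≠ ⊥ → s ∈ normalizer (N : Set G) →
      ∃ y ∈ N, y ≠ 1 ∧ y * s = s * y := by
    intro N hNA hN1 hsN'
    obtain ⟨y, hy, hy1, hyc⟩ := Cfsg.Agent.Lib.Helper2.BG96.exists_central_of_pgroup
      ((ea_isPGroup hA).to_le hNA) hN1 hPs (zpowers_le.mpr hsN')
    exact ⟨y, hy, hy1, ((mem_centralizer_iff.mp hyc) s (mem_zpowers s)).symm⟩
  have hA1 : A ≠ ⊥ := by
    intro h
    rw [h, Subgroup.card_bot] at hA2
    have h2 : 1 < p ^ 2 := Nat.one_lt_pow (by norm_num) hpp.one_lt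
    omega
  set Z : Subgroup G := A ⊓ centralizer ({s} : Set G) with hZ
  have hmemZ : ∀ y, y ∈ Z ↔ y ∈ A ∧ y * s = s * y := by
    intro y
    rw [hZ, mem_inf, mem_centralizer_singleton_iff]
  obtain ⟨z₀, hz₀A, hz₀1, hz₀s⟩ := hfix A le_rfl hA1 hsN
  have hZA : Z ≠ A := by
    intro h
    apply hsC
    rw [mem_centralizer_iff]
    intro a ha
    exact ((hmemZ a).mp (h ▸ ha)).2
  have hZc' : Nat.card Z ∣ p := by
    have := Cfsg.Agent.Lib.Helper68.BG11.card_dvd_of_lt (p := p) (n := 1) (D := Z) (E := A)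
      hA2 inf_le_left hZA
    rwa [pow_one] at this
  have hZc : Nat.card Z = p := by
    refine ((Nat.dvd_prime hpp).mp hZc').resolve_left ?_
    intro h
    have h0 : Z = ⊥ := (Subgroup.card_eq_one).mp h
    have : z₀ ∈ Z := (hmemZ z₀).mpr ⟨hz₀A, hz₀s⟩
    rw [h0, mem_bot] at this
    exact hz₀1 this
  -- the homomorphism `d`
  let d : A →* A := MonoidHom.mk'
    (fun a => ⟨(a : G)⁻¹ * (s * a * s⁻¹), A.mul_mem (A.inv_mem a.2) (hconj a a.2)⟩) (by
      intro a b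
      apply Subtype.ext
      show ((a : G) * b)⁻¹ * (s * ((a : G) * b) * s⁻¹)
        = ((a : G)⁻¹ * (s * a * s⁻¹)) * ((b : G)⁻¹ * (s * b * s⁻¹))
      calc ((a : G) * b)⁻¹ * (s * ((a : G) * b) * s⁻¹)
          = (b : G)⁻¹ * ((a : G)⁻¹ * (s * a * s⁻¹)) * (s * b * s⁻¹) := by group
        _ = ((a : G)⁻¹ * (s * a * s⁻¹)) * (b : G)⁻¹ * (s * b * s⁻¹) := by
            rw [hcomm (b : G)⁻¹ (A.inv_mem b.2) ((a : G)⁻¹ * (s * a * s⁻¹))
              (A.mul_mem (A.inv_mem a.2) (hconj a a.2))]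
        _ = _ := by group)
  have hd : ∀ a : A, ((d a : A) : G) = (a : G)⁻¹ * (s * a * s⁻¹) := fun a => rfl
  set D : Subgroup G := d.range.map A.subtype with hD
  have hmemD : ∀ y, y ∈ D ↔ ∃ a ∈ A, y = a⁻¹ * (s * a * s⁻¹) := by
    intro y
    constructor
    · rintro ⟨_, ⟨a, rfl⟩, rfl⟩
      exact ⟨a, a.2, rfl⟩
    · rintro ⟨a, ha, rfl⟩
      exact ⟨d ⟨a, ha⟩, ⟨⟨a, ha⟩, rfl⟩, rfl⟩
  have hDA : D ≤ A := by
    intro y hy
    obtain ⟨a, ha, rfl⟩ := (hmemD y).mp hy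
    exact A.mul_mem (A.inv_mem ha) (hconj a ha)
  have hDne : D ≠ A := by
    intro h
    have hsurj : Function.Surjective d := by
      intro b
      have hb : (b : G) ∈ D := by rw [h]; exact b.2
      obtain ⟨a, ha, hab⟩ := (hmemD _).mp hb
      exact ⟨⟨a, ha⟩, Subtype.ext hab.symm⟩
    have hinj := Finite.injective_iff_surjective.mpr hsurj
    have h1 : d ⟨z₀, hz₀A⟩ = d 1 := by
      rw [map_one]
      apply Subtype.ext
      rw [hd]
      show z₀⁻¹ * (s * z₀ * s⁻¹) = 1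
      rw [← hz₀s]
      group
    exact hz₀1 (congrArg Subtype.val (hinj h1))
  have hDc : Nat.card D ∣ p := by
    have := Cfsg.Agent.Lib.Helper68.BG11.card_dvd_of_lt (p := p) (n := 1) (D := D) (E := A)
      hA2 hDA hDne
    rwa [pow_one] at this
  have hsD : s ∈ normalizer (D : Set G) := by
    apply mem_normalizer_of_cj_eq
    apply Subgroup.eq_of_le_of_card_ge
    · rintro _ ⟨y, hy, rfl⟩
      obtain ⟨a, ha, rfl⟩ := (hmemD y).mp hy
      rw [hmemD]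
      refine ⟨s * a * s⁻¹, hconj a ha, ?_⟩
      simp only [MulEquiv.coe_toMonoidHom, MulAut.conj_apply]
      group
    · rw [card_cj]
  have hDZ : D ≤ Z := by
    by_cases hD1 : D = ⊥
    · rw [hD1]; exact bot_le
    obtain ⟨y, hyD, hy1, hys⟩ := hfix D hDA hD1 hsD
    have hyZ : y ∈ Z := (hmemZ y).mpr ⟨hDA hyD, hys⟩
    intro w hw
    exact (zpowers_le.mpr hyZ)
      (Cfsg.Agent.Lib.Helper68.BG11.mem_zpowers_of_card_prime hDc hyD hy1 hw)
  refine ⟨Z, inf_le_left, hZc, ?_, ?_⟩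
  · rw [mem_centralizer_iff]
    intro h hh
    exact ((hmemZ h).mp hh).2
  intro X Y hXA hYA hXc hYc hXZ hYZ
  obtain ⟨x, hxX, hx1⟩ := exists_ne_one_of_card_prime hXc
  obtain ⟨y, hyY, hy1⟩ := exists_ne_one_of_card_prime hYc
  have hnotZ : ∀ (W : Subgroup G) (w : G), Nat.card W = p → W ≠ Z → w ∈ W → w ≠ 1 → w ∉ Z := by
    intro W w hWc hWZ hw hw1 hwZ
    apply hWZ
    rw [eq_zpowers_of_card_prime hWc hw hw1, eq_zpowers_of_card_prime hZc hwZ hw1]
  have hxZ := hnotZ X x hXc hXZ hxX hx1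
  have hyZ := hnotZ Y y hYc hYZ hyY hy1
  set c : G := x⁻¹ * (s * x * s⁻¹) with hc
  have hcD : c ∈ D := (hmemD c).mpr ⟨x, hXA hxX, rfl⟩
  have hcZ : c ∈ Z := hDZ hcD
  have hc1 : c ≠ 1 := by
    intro h
    apply hxZ
    rw [hmemZ]
    refine ⟨hXA hxX, ?_⟩
    have h2 : s * x * s⁻¹ = x := by
      have : x * c = x := by rw [h, mul_one]
      rw [hc] at this
      calc s * x * s⁻¹ = x * (x⁻¹ * (s * x * s⁻¹)) := by group
        _ = x := this
    calc x * s = (s * x * s⁻¹) * s := by rw [h2]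
      _ = s * x := by group
  have hsx : s * x * s⁻¹ = x * c := by rw [hc]; group
  have hcs : Commute s c := ((hmemZ c).mp hcZ).2.symm
  have hpow : ∀ i : ℕ, s ^ i * x * (s ^ i)⁻¹ = x * c ^ i := by
    intro i
    induction i with
    | zero => simp
    | succ i ih =>
      calc s ^ (i + 1) * x * (s ^ (i + 1))⁻¹ = s * (s ^ i * x * (s ^ i)⁻¹) * s⁻¹ := by
            rw [pow_succ']; group
        _ = s * (x * c ^ i) * s⁻¹ := by rw [ih]
        _ = (s * x * s⁻¹) * (s * c ^ i) * s⁻¹ := by group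
        _ = (x * c) * (c ^ i * s) * s⁻¹ := by rw [hsx, (hcs.pow_right i).eq]
        _ = x * c ^ (i + 1) := by rw [pow_succ']; group
  -- `A = ⟨x⟩ Z`
  have hsup : zpowers x ⊔ Z = A := by
    by_contra hne
    have hle : zpowers x ⊔ Z ≤ A := sup_le (zpowers_le.mpr (hXA hxX)) inf_le_left
    have h1 := Cfsg.Agent.Lib.Helper68.BG11.card_dvd_of_lt (p := p) (n := 1)
      (D := zpowers x ⊔ Z) (E := A) hA2 hle hne
    rw [pow_one] at h1
    have h2 : Z = zpowers x ⊔ Z :=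
      Subgroup.eq_of_le_of_card_ge le_sup_right (by rw [hZc]; exact Nat.le_of_dvd hpp.pos h1)
    exact hxZ (h2 ▸ mem_sup_left (mem_zpowers x))
  have hyA : y ∈ zpowers x ⊔ Z := hsup ▸ hYA hyY
  have hcomm' : ∀ h ∈ zpowers x, ∀ k ∈ Z, h * k = k * h := by
    intro h hh k hk
    exact hcomm h ((zpowers_le.mpr (hXA hxX)) hh) k (inf_le_left (a := A) hk)
  obtain ⟨u, hu, w, hw, hyuw⟩ := (Cfsg.Agent.Lib.Helper14.mem_sup_of_commute hcomm').mp hyA
  obtain ⟨j, rfl⟩ := mem_zpowers_iff.mp hu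
  have hw' : w ∈ zpowers c := by
    rw [← eq_zpowers_of_card_prime hZc hcZ hc1]; exact hw
  obtain ⟨l, rfl⟩ := mem_zpowers_iff.mp hw'
  have hxp : x ^ (p : ℤ) = 1 := by rw [zpow_natCast]; exact hA.2 x (hXA hxX)
  have hcp : c ^ (p : ℤ) = 1 := by rw [zpow_natCast]; exact hA.2 c (hDA hcD)
  have hpj : ¬ (p : ℤ) ∣ j := by
    rintro ⟨t, rfl⟩
    apply hyZ
    rw [hyuw, zpow_mul, hxp, one_zpow, one_mul]
    exact hw
  have hcop : IsCoprime j (p : ℤ) :=
    ((Nat.prime_iff_prime_int.mp hpp).coprime_iff_not_dvd.mpr hpj).symm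
  obtain ⟨a, b, hab⟩ := hcop
  have hxc : Commute x c := hcomm x (hXA hxX) c (hDA hcD)
  set i : ℕ := ((l * a) % (p : ℤ)).toNat with hi
  have hi' : ((i : ℕ) : ℤ) = (l * a) % (p : ℤ) :=
    Int.toNat_of_nonneg (Int.emod_nonneg _ (by exact_mod_cast hpp.ne_zero))
  have hya : y ^ a = x * c ^ i := by
    rw [hyuw, ((hxc.zpow_zpow j l)).mul_zpow, ← zpow_mul, ← zpow_mul]
    have h1 : j * a = 1 - b * p := by linarith
    rw [h1, zpow_sub, zpow_one, mul_comm b, zpow_mul, hxp, one_zpow, inv_one, mul_one,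
      zpow_eq_zpow_emod (l * a) hcp, ← hi', zpow_natCast]
  refine ⟨i, ?_⟩
  have hne1 : y ^ a ≠ 1 := by
    intro h
    rw [hya, ← hpow i] at h
    apply hx1
    have : x = (s ^ i)⁻¹ * (s ^ i * x * (s ^ i)⁻¹) * s ^ i := by group
    rw [this, h]
    group
  rw [eq_zpowers_of_card_prime hYc (Y.zpow_mem hyY a) hne1]
  have hmem : y ^ a ∈ cj (s ^ i) X := by
    rw [hya, ← hpow i]
    exact conj_mem_cj hxX
  exact (eq_zpowers_of_card_prime (by rw [card_cj, hXc]) hmem hne1).symm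

end Cfsg.Agent.Lib.Helper13.BG127
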